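import Cfsg.Agent.H589.BD.Defs
import Cfsg.Agent.H684.EB.Base
import Cfsg.Agent.H684.CoverCount
import Cfsg.Agent.H494.R4.RegUni
import Cfsg.Agent.H685.R4.Stein
import Cfsg.Agent.S4483
import Cfsg.Agent.S0887
import Cfsg.Agent.H979.LieSplit

/-!
# S4932, `p = 2` (helper749)

* `kill_two_of` : `Kill 2 S` from two real odd degrees in every almost simple group over `S` and `EvenJ S`
  (TEAM EB, S4522);
* `kill_two_lie` : groups of Lie type of odd characteristic `r`, from `SecondOdd r S` and `EvenJ S`.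
-/

set_option autoImplicit false
set_option linter.unusedSectionVars false

open Cfsg

namespace Cfsg.Agent.H749.Bd

open Cfsg.Agent.H589.BD Cfsg.Agent.H684.EB Cfsg.Agent.H610.EB Cfsg.Agent.H619.R4 Cfsg.Agent.H494.R4
open Cfsg.Agent.Blocks.Basic Cfsg.Agent.Blocks.Local Cfsg.Agent.H684.BlockTools

universe u

/-- existence of the exponent -/
theorem exists_isK (G : Type u) [Group G] [Finite G] : ∃ k : ℕ, IsK G k := by
  obtain ⟨a, m, hm, hGm⟩ := Nat.exists_eq_two_pow_mul_odd (Nat.card_pos (α := G)).ne'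
  have hcop : Nat.Coprime (2 ^ a) m := by
    apply Nat.Coprime.pow_left
    rwa [Nat.coprime_two_left]
  obtain ⟨k', h1, h2⟩ := Nat.chineseRemainder hcop 1 (m - 1)
  have hm1 : (m - 1) + 1 = m := Nat.sub_add_cancel hm.pos
  refine ⟨k', ⟨?_, ?_⟩⟩
  · rintro g ⟨j, hj⟩
    have hd : orderOf g ∣ 2 ^ a := by
      have h3 : orderOf g ∣ 2 ^ a * m := hGm ▸ orderOf_dvd_natCard g
      refine Nat.Coprime.dvd_of_dvd_mul_right ?_ h3
      rw [hj]
      apply Nat.Coprime.pow_left
      rwa [Nat.coprime_two_left]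
    calc g ^ k' = g ^ 1 := by
          rw [pow_eq_pow_iff_modEq]
          exact h1.of_dvd hd
      _ = g := pow_one g
  · intro g hg
    have hd : orderOf g ∣ m := by
      have h3 : orderOf g ∣ 2 ^ a * m := hGm ▸ orderOf_dvd_natCard g
      refine Nat.Coprime.dvd_of_dvd_mul_left ?_ h3
      apply Nat.Coprime.pow_right
      rwa [Nat.coprime_two_right]
    have e1 : k' + 1 ≡ 0 [MOD m] := by
      have := h2.add_right 1
      rw [hm1] at this
      exact this.trans (by simp [Nat.ModEq])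
    have e2 : orderOf g ∣ k' + 1 := hd.trans ((Nat.modEq_zero_iff_dvd).1 e1)
    rw [← mul_eq_one_iff_eq_inv, ← pow_succ]
    exact orderOf_dvd_iff_pow_eq_one.1 e2

/-- going up from a normal subgroup -/
theorem exists_dvd_over {p : ℕ} [Fact p.Prime] {M : Ideal AlgInt} (hM : IsPModular p M) {G : Type u} [Group G]
    [Finite G] (N : Subgroup G) [N.Normal] {χ : IrrCharacter N} (hχ : χ ∈ principalBlock M N) :
    ∃ ψ : IrrCharacter G, ψ ∈ principalBlock M G ∧ charDegree (χ : N → ℂ) ∣ charDegree (ψ : G → ℂ) := by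
  have := Fintype.ofFinite G
  have := Fintype.ofFinite N
  obtain ⟨ψ, hψ, hover⟩ := Cfsg.Agent.H684.CoverCount.exists_over hM N χ hχ
  exact ⟨ψ, hψ, (Cfsg.Agent.S0887.result N (ψ : G → ℂ) ψ.2 (χ : N → ℂ) χ.2 hover _ _
    (irr_one_eq_charDegree ψ.2) (irr_one_eq_charDegree χ.2)).1⟩

variable {S : Type u} [Group S] [Finite S] [IsSimpleGroup S]

/-- an even degree in the principal block of every group over `S` -/
theorem exists_even (hna : ∃ a b : S, a * b ≠ b * a) (hE : EvenJ S) {A : Type u} [Group A] [Finite A]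
    {N : Subgroup A} (h : Over S N) {M : Ideal AlgInt} (hM : IsPModular 2 M) :
    ∃ d ∈ cd0 M A, Even d := by
  have := Fact.mk Nat.prime_two
  have hN := h.normal
  obtain ⟨e⟩ := h.iso
  obtain ⟨k, hk⟩ := exists_isK N
  have := Fintype.ofFinite N
  have : Fintype (⊤ : Subgroup N) := Fintype.ofFinite _
  have hs : IsSimpleGroup N := e.isSimpleGroup
  have hcen : Subgroup.centralizer ((⊤ : Subgroup N) : Set N) = ⊥ := by
    rw [Subgroup.coe_top, Subgroup.centralizer_univ]
    refine H949.LieDZ.center_eq_bot ?_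
    obtain ⟨a, b, hab⟩ := hna
    refine ⟨e.symm a, e.symm b, fun h1 => hab ?_⟩
    have := congrArg e h1
    rwa [map_mul, map_mul, e.apply_symm_apply, e.apply_symm_apply] at this
  obtain ⟨χ, h1, h2, -, -⟩ := hE N ⊤ ⟨e.symm.trans Subgroup.topEquiv.symm⟩ hcen ⊤ le_rfl (by
    rw [Subgroup.relIndex_self]; exact odd_one) ⟨0, by rw [Subgroup.index_top, pow_zero]⟩ k hk M hM
  obtain ⟨ψ, h3, h4⟩ := exists_dvd_over hM N h1
  exact ⟨_, ⟨ψ, h3, rfl⟩, even_iff_two_dvd.2 ((even_iff_two_dvd.1 h2).trans h4)⟩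

/-- real odd degrees are degrees in the principal block -/
theorem mem_cd0_of_rd {A : Type u} [Group A] [Finite A] {N : Subgroup A} {d : ℕ} (h : RD A N d) (hd : Odd d)
    {M : Ideal AlgInt} (hM : IsPModular 2 M) : d ∈ cd0 M A := by
  obtain ⟨χ, h1, -, rfl⟩ := h
  exact ⟨χ, (S4483.result M hM).1 χ h1 hd, rfl⟩

theorem one_mem_cd0 {A : Type u} [Group A] [Finite A] {M : Ideal AlgInt} (hM : IsPModular 2 M) : 1 ∈ cd0 M A := by
  have := Fact.mk Nat.prime_two
  exact ⟨triv A, triv_mem hM, charDegree_of_eq (by rw [Nat.cast_one]; rfl)⟩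

/-- **`Kill 2 S`** -/
theorem kill_two_of (hna : ∃ a b : S, a * b ≠ b * a)
    (h : ∀ (A : Type u) [Group A] [Finite A] (N : Subgroup A), Over S N →
      ∃ a b : ℕ, Odd a ∧ Odd b ∧ a ≠ 1 ∧ b ≠ 1 ∧ a ≠ b ∧ RD A N a ∧ RD A N b)
    (hE : EvenJ S) : Kill 2 S := by
  intro A _ _ N hN M hM
  obtain ⟨a, b, ha, hb, ha1, hb1, hab, ra, rb⟩ := h A N hN
  obtain ⟨d, hd, hde⟩ := exists_even hna hE hN hM
  have hfin : (cd0 M A).Finite := by
    have : Finite (IrrCharacter A) := Characters.Core.finite_irr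
    refine (Set.finite_range fun χ : IrrCharacter A => charDegree (χ : A → ℂ)).subset ?_
    rintro _ ⟨χ, -, rfl⟩
    exact ⟨χ, rfl⟩
  have hsub : (({1, a, b, d} : Finset ℕ) : Set ℕ) ⊆ cd0 M A := by
    intro x hx
    simp only [Finset.coe_insert, Finset.coe_singleton, Set.mem_insert_iff, Set.mem_singleton_iff] at hx
    rcases hx with rfl | rfl | rfl | rfl
    · exact one_mem_cd0 hM
    · exact mem_cd0_of_rd ra ha hM
    · exact mem_cd0_of_rd rb hb hM
    · exact hd
  have hcard : ({1, a, b, d} : Finset ℕ).card = 4 := by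
    have hd1 : 1 ≠ d := by
      rintro rfl
      exact absurd hde (by decide)
    have had : a ≠ d := by
      rintro rfl
      exact (Nat.not_even_iff_odd.2 ha) hde
    have hbd : b ≠ d := by
      rintro rfl
      exact (Nat.not_even_iff_odd.2 hb) hde
    rw [Finset.card_insert_of_notMem, Finset.card_insert_of_notMem, Finset.card_insert_of_notMem,
      Finset.card_singleton]
    · simpa using hbd
    · simp only [Finset.mem_insert, Finset.mem_singleton, not_or]
      exact ⟨hab, had⟩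
    · simp only [Finset.mem_insert, Finset.mem_singleton, not_or]
      exact ⟨ha1.symm, hb1.symm, hd1⟩
  have h4 := Set.ncard_le_ncard hsub hfin
  rw [Set.ncard_coe_finset, hcard] at h4
  omega

/-- the characteristic divides the order -/
theorem dvd_card_lie (hna : ∃ a b : S, a * b ≠ b * a) {r : ℕ} (hr : r.Prime) (hL : IsLieTypeChar r S) :
    r ∣ Nat.card S := by
  have : Fact r.Prime := ⟨hr⟩
  by_contra h
  let P : Sylow r S := default
  have h1 : (P : Subgroup S) = ⊥ := by
    rw [← Subgroup.card_eq_one, P.card_eq_multiplicity, Nat.factorization_eq_zero_of_not_dvd h, pow_zero]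
  obtain ⟨a, b, hab⟩ := hna
  apply hab
  have h2 : a = 1 := by
    refine H949.LieDZ.regular_centralizer ⟨a, b, hab⟩ hL P (y := a) ?_ ?_
    · rw [Subgroup.mem_centralizer_iff]
      intro x hx
      have h3 : x = 1 := by
        have h4 : x ∈ (P : Subgroup S) := hx
        rwa [h1, Subgroup.mem_bot] at h4
      rw [h3, one_mul, mul_one]
    · intro h3
      exact h (h3.trans (orderOf_dvd_natCard a))
  rw [h2, one_mul, mul_one]

/-- **groups of Lie type of odd characteristic** -/
theorem kill_two_lie (hna : ∃ a b : S, a * b ≠ b * a) {r : ℕ} (hr : r.Prime) (hr2 : r ≠ 2) (hS : IsLieTypeChar r S)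
    (h2 : SecondOdd r S) (hE : EvenJ S) : Kill 2 S := by
  have := Fact.mk hr
  refine kill_two_of hna (fun A _ _ N hN => ?_) hE
  have hn := hN.normal
  obtain ⟨e⟩ := hN.iso
  have hs : IsSimpleGroup N := e.isSimpleGroup
  have hodd := hr.odd_of_ne_two hr2
  have hspl := H979.LieSplit.hasSplit_of_isLieTypeChar hr (OddHalf.Known.isLieTypeChar_congr e.symm hS)
  have hdvd : r ∣ Nat.card N := by
    rw [Nat.card_congr e.toEquiv]
    exact dvd_card_lie hna hr hS
  obtain ⟨d, hd, hdr, hrd⟩ := h2 A N ⟨e.symm⟩ hN.cent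
  have hpos : 0 < (Nat.card N).factorization r := hr.factorization_pos_of_dvd Nat.card_pos.ne' hdvd
  refine ⟨_, d, hodd.pow, hd, ?_, ?_, ?_, H685.R4.rd_steinberg N hspl hdvd, hrd⟩
  · exact (Nat.one_lt_pow hpos.ne' hr.one_lt).ne'
  · intro h1
    exact hdr 0 (by rw [h1, pow_zero])
  · exact fun h1 => hdr _ h1.symm

end Cfsg.Agent.H749.Bd
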